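import Groth.Agent.PolLib.FlatTS
import Groth.Agent.PolLib.FlatGamma
import Groth.Agent.FBaseLib.Reduced

/-!
# Divided powers of a flat algebra with geometrically reduced fibres
-/

set_option autoImplicit false
universe u

open scoped TensorProduct

namespace Groth.Agent.ZBGammaRed

open Groth.Agent.PolLib

variable {A : Type u} [CommRing A] {B : Type u} [CommRing B] [Algebra A B] {d : ℕ}

/-- Symmetric tensors of a flat algebra are pure in all tensors. -/
theorem lTensor_val_injective [Module.Flat A B] (M : Type u) [AddCommGroup M] [Module A M] :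
    Function.Injective ((SymTen.TS A B d).val.toLinearMap.lTensor M) := by
  classical
  rw [injective_iff_map_eq_zero]
  intro x hx
  obtain ⟨l, k, z, rfl⟩ : ∃ (l : ℕ) (k : Fin l → M) (z : Fin l → SymTen.TS A B d),
      x = ∑ a, k a ⊗ₜ[A] z a := by
    clear hx
    induction x using TensorProduct.induction_on with
    | zero => exact ⟨0, Fin.elim0, Fin.elim0, by simp⟩
    | tmul a b => exact ⟨1, fun _ => a, fun _ => b, by simp⟩
    | add u v hu hv =>
      obtain ⟨l, k, z, rfl⟩ := hu
      obtain ⟨l', k', z', rfl⟩ := hv
      exact ⟨l + l', Fin.append k k', Fin.append z z', by simp [Fin.sum_univ_add]⟩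
  obtain ⟨n, g, t, ht, hgt⟩ := exists_invariant_lift_family (fun a => (z a).1) fun a => (z a).2
  have hu : (tp d g).lTensor M (∑ a, k a ⊗ₜ[A] t a) = 0 := by
    rw [← hx]
    simp [map_sum, hgt]
  obtain ⟨m, h, g', hg', hh⟩ := kill d M n g _ hu
  have : Finite (Orb (Fin m) d) := Finite.of_surjective cls cls_surjective
  let _ := Fintype.ofFinite (Orb (Fin m) d)
  let co : Orb (Fin m) d → Fin l → A := fun q a =>
    (beta (Pi.basisFun A (Fin m)) d).coord (rep q) (tp d h (t a))
  let w : Orb (Fin m) d → SymTen.TS A B d := fun q =>
    ⟨tp d g' ((SymTen.TS A (Fin m → A) d).val (orb (Pi.basisFun A (Fin m)) q)), fun σ => by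
      rw [← tp_reindex]
      exact congrArg _ ((orb (Pi.basisFun A (Fin m)) q).2 σ)⟩
  have hco : ∀ q, ∑ a, co q a • k a = 0 := fun q => by
    have := congrArg (fun y => TensorProduct.rid A M
      (((beta (Pi.basisFun A (Fin m)) d).coord (rep q)).lTensor M y)) hh
    simpa [map_sum, co] using this
  have hz : ∀ a, z a = ∑ q, co q a • w q := fun a => by
    apply Subtype.ext
    rw [AddSubmonoidClass.coe_finsetSum]
    refine (hgt a).symm.trans ?_
    rw [← hg', tp_comp, LinearMap.comp_apply,
      eq_sum_orb (tp d h (t a)) (fun σ => by rw [← tp_reindex, ht]), map_sum]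
    exact Finset.sum_congr rfl fun q _ => by simp [co, w]
  calc ∑ a, k a ⊗ₜ[A] z a = ∑ q, (∑ a, co q a • k a) ⊗ₜ[A] w q := by
        simp only [hz, TensorProduct.tmul_sum, TensorProduct.tmul_smul, TensorProduct.sum_tmul,
          TensorProduct.smul_tmul']
        exact Finset.sum_comm
    _ = 0 := by simp [hco]

variable (A B) in
/-- Splitting off the last factor, as algebras. -/
noncomputable def joinAlg (d : ℕ) : (⨂[A]^d B) ⊗[A] B ≃ₐ[A] (⨂[A]^(d + 1) B) :=
  AlgEquiv.ofLinearEquiv (join A B d) (by
      rw [Algebra.TensorProduct.one_def, PiTensorProduct.one_def, join_tmul, PiTensorProduct.one_def]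
      congr 1
      funext i
      refine Fin.addCases (fun j => ?_) (fun j => ?_) i <;> simp)
    (by
      intro x y
      induction x using TensorProduct.induction_on with
      | zero => simp
      | add a b ha hb => rw [add_mul, map_add, map_add, ha, hb, add_mul]
      | tmul a s =>
        induction y using TensorProduct.induction_on with
        | zero => simp
        | add u v hu hv => rw [mul_add, map_add, map_add, hu, hv, mul_add]
        | tmul c t =>
          induction a using PiTensorProduct.induction_on with
          | add a b ha hb =>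
            rw [TensorProduct.add_tmul, add_mul, map_add, map_add, ha, hb, add_mul]
          | smul_tprod r a =>
            induction c using PiTensorProduct.induction_on with
            | add u v hu hv =>
              rw [TensorProduct.add_tmul, mul_add, map_add, map_add, hu, hv, mul_add]
            | smul_tprod r' c =>
              simp only [Algebra.TensorProduct.tmul_mul_tmul, smul_mul_assoc, mul_smul_comm,
                PiTensorProduct.tprod_mul_tprod, ← TensorProduct.smul_tmul', map_smul, join_tmul]
              congr 3
              funext i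
              refine Fin.addCases (fun j => ?_) (fun j => ?_) i <;> simp)

/-- Tensor powers of an algebra with geometrically reduced fibres have reduced fibres. -/
theorem isReduced_tensorPower (hred : ∀ (L : Type u) [Field L] [Algebra A L], IsReduced (L ⊗[A] B))
    (K : Type u) [Field K] [Algebra A K] : ∀ d : ℕ, IsReduced (K ⊗[A] (⨂[A]^d B)) := by
  intro d
  induction d with
  | zero =>
    have hs : Function.Surjective (algebraMap K (K ⊗[A] (⨂[A]^0 B))) := by
      intro z
      induction z using TensorProduct.induction_on with
      | zero => exact ⟨0, map_zero _⟩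
      | add u v hu hv =>
        obtain ⟨a, rfl⟩ := hu
        obtain ⟨b, rfl⟩ := hv
        exact ⟨a + b, map_add _ _ _⟩
      | tmul a c =>
        induction c using PiTensorProduct.induction_on with
        | smul_tprod r f =>
          refine ⟨r • a, ?_⟩
          rw [show PiTensorProduct.tprod A f = 1 by
            rw [PiTensorProduct.one_def]; exact congrArg _ (Subsingleton.elim _ _),
            TensorProduct.tmul_smul, Algebra.TensorProduct.algebraMap_apply]
          simp [TensorProduct.smul_tmul']
        | add u v hu hv =>
          obtain ⟨p, hp⟩ := hu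
          obtain ⟨q, hq⟩ := hv
          exact ⟨p + q, by rw [map_add, hp, hq, TensorProduct.tmul_add]⟩
    rcases subsingleton_or_nontrivial (K ⊗[A] (⨂[A]^0 B)) with h | h
    · exact ⟨fun x _ => Subsingleton.elim _ _⟩
    · let e := RingEquiv.ofBijective (algebraMap K (K ⊗[A] (⨂[A]^0 B)))
        ⟨RingHom.injective _, hs⟩
      exact isReduced_of_injective e.symm e.symm.injective
  | succ d ih =>
    haveI : Algebra.IsGeometricallyReduced K (K ⊗[A] B) := by
      rw [Algebra.isGeometricallyReduced_field_iff]
      haveI := hred (AlgebraicClosure K)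
      exact isReduced_of_injective
        (Algebra.TensorProduct.cancelBaseChange A K (AlgebraicClosure K) (AlgebraicClosure K) B)
        (Algebra.TensorProduct.cancelBaseChange A K (AlgebraicClosure K) (AlgebraicClosure K) B).injective
    haveI := ih
    haveI : IsReduced ((K ⊗[A] (⨂[A]^d B)) ⊗[K] (K ⊗[A] B)) := FBaseLib.isReduced_tensor _ _
    let e₁ := Algebra.TensorProduct.cancelBaseChange A K K (K ⊗[A] (⨂[A]^d B)) B
    let e₂ := Algebra.TensorProduct.assoc A A A K (⨂[A]^d B) B
    haveI : IsReduced ((K ⊗[A] (⨂[A]^d B)) ⊗[A] B) :=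
      isReduced_of_injective e₁.symm e₁.symm.injective
    haveI : IsReduced (K ⊗[A] ((⨂[A]^d B) ⊗[A] B)) :=
      isReduced_of_injective e₂.symm e₂.symm.injective
    let e₃ := Algebra.TensorProduct.congr (AlgEquiv.refl : K ≃ₐ[A] K) (joinAlg A B d)
    exact isReduced_of_injective e₃.symm e₃.symm.injective

/-- Divided powers have geometrically reduced fibres. -/
theorem isReduced_gamma {C : Type u} [CommRing C] [Algebra A C] (γ : PolLaw.MulLaw A B C d)
    (hγ : PolLaw.IsGammaD γ) [Module.Flat A B]
    (hred : ∀ (K : Type u) [Field K] [Algebra A K], IsReduced (K ⊗[A] B))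
    (K : Type u) [Field K] [Algebra A K] : IsReduced (K ⊗[A] C) := by
  obtain ⟨φ, hφ⟩ := exists_gammaD_tsMap γ hγ
  let e := AlgEquiv.ofBijective φ ⟨phi_injective_of_flat γ φ hφ hγ, phi_surjective_of_flat γ φ hφ⟩
  haveI := isReduced_tensorPower hred K d
  haveI : IsReduced (K ⊗[A] SymTen.TS A B d) := by
    refine isReduced_of_injective
      (Algebra.TensorProduct.map (AlgHom.id A K) (SymTen.TS A B d).val) ?_
    exact lTensor_val_injective K
  let e' := Algebra.TensorProduct.congr (AlgEquiv.refl : K ≃ₐ[A] K) e
  exact isReduced_of_injective e' e'.injective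

end Groth.Agent.ZBGammaRed
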